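import Mathlib
import Cfsg.Prelude.Def_LocalStructure
import Cfsg.Agent.S2831
import Cfsg.Agent.Lib.Components.Subnormal
import Cfsg.Agent.Lib.LocalChar.PClosed

/-!
Structure of `p`-minimal groups (Sylow subgroup not normal and in a unique maximal subgroup).
-/

set_option autoImplicit false

namespace Cfsg.Agent.Lib.PMinimal55

open Subgroup Cfsg

variable {P : Type*} [Group P] [Finite P] {p : ℕ} [hp : Fact p.Prime]

/-- The data: `S` is a non-normal Sylow subgroup and `M` is the unique maximal subgroup over it. -/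
structure Data (S : Sylow p P) (M : Subgroup P) : Prop where
  coatom : IsCoatom M
  le : (S : Subgroup P) ≤ M
  not_normal : ¬ (S : Subgroup P).Normal
  unique : ∀ X : Subgroup P, (S : Subgroup P) ≤ X → X ≠ ⊤ → X ≤ M

theorem data_of_isPMinimal (hP : IsPMinimal p P) (S : Sylow p P) {M : Subgroup P} (hM : IsCoatom M)
    (hSM : (S : Subgroup P) ≤ M) : Data S M := by
  obtain ⟨hn, M', -, huniq⟩ := hP S
  refine ⟨hM, hSM, hn, fun X hSX hX => ?_⟩
  obtain ⟨N, hN, hXN⟩ := (eq_top_or_exists_le_coatom X).resolve_left hX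
  exact hXN.trans (le_of_eq ((huniq N ⟨hN, hSX.trans hXN⟩).trans (huniq M ⟨hM, hSM⟩).symm))

theorem exists_data (hP : IsPMinimal p P) (S : Sylow p P) : ∃ M, Data S M := by
  obtain ⟨-, M, ⟨hM, hSM⟩, -⟩ := hP S
  exact ⟨M, data_of_isPMinimal hP S hM hSM⟩

variable {S : Sylow p P} {M : Subgroup P}

theorem Data.isMinimalOver (d : Data S M) : IsMinimalOver (S : Subgroup P) := by
  refine ⟨?_, M, ⟨d.coatom, d.le⟩, fun X hX =>
    ((hX.1.le_iff.1 (d.unique X hX.2 hX.1.1)).resolve_left d.coatom.1).symm⟩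
  by_contra hne
  have h1 : normalClosure ((S : Subgroup P) : Set P) ≤ M := d.unique _ le_normalClosure hne
  have h2 : normalizer ((S : Subgroup P) : Set P) ≤ M :=
    d.unique _ le_normalizer fun h => d.not_normal (normalizer_eq_top_iff.1 h)
  exact d.coatom.1 (top_le_iff.1 ((Sylow.normalizer_sup_eq_top' S le_normalClosure).ge.trans
    (sup_le h2 h1)))

theorem Data.isPIrreducible (d : Data S M) : IsPIrreducible p P :=
  Cfsg.Agent.S2831.result S d.isMinimalOver

/-- A normal subgroup contains `O^p(P)` or lies in the core of `M`. -/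
theorem Data.dichotomy (d : Data S M) (N : Subgroup P) [N.Normal] :
    pResidual p P ≤ N ∨ N ≤ M.normalCore := by
  by_cases h : N ⊔ (S : Subgroup P) = ⊤
  · exact Or.inl (Transfer.pResidual_le_iff.mpr fun g hg =>
      LocalChar.mem_of_le_sup S.2 le_normalizer_of_normal (h ▸ mem_top g) hg)
  · exact Or.inr (M.normal_le_normalCore.2 (le_sup_left.trans (d.unique _ le_sup_right h)))

theorem Data.pResidual_not_le (d : Data S M) : ¬ pResidual p P ≤ M := fun h =>
  d.coatom.1 (top_le_iff.1 ((Transfer.pResidual_sup_sylow S).ge.trans (sup_le h d.le)))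

/-- A subnormal subgroup of `P` inside `M` lies in the core of `M`. -/
theorem Data.le_normalCore_of_isSubnormal (d : Data S M) {N : Subgroup P} (hN : N.IsSubnormal)
    (hNM : N ≤ M) : N ≤ M.normalCore := by
  classical
  -- maximal `S`-invariant subnormal subgroups inside `M`
  let good : Set (Subgroup P) :=
    {X | X.IsSubnormal ∧ X ≤ M ∧ (S : Subgroup P) ≤ normalizer (X : Set P)}
  have hclos : ∀ X : Subgroup P, X.IsSubnormal → X ≤ M →
      ∃ Y ∈ good, X ≤ Y ∧ ∀ Z : Subgroup P, (S : Subgroup P) ≤ normalizer (Z : Set P) → X ≤ Z → Y ≤ Z := by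
    intro X hX hXM
    refine ⟨⨆ s : ↥(S : Subgroup P), X.map (MulAut.conj (s : P)).toMonoidHom,
      ⟨Components.subnormal_sSup _ ?_, iSup_le fun s => ?_, ?_⟩, ?_, fun Z hZ hXZ => iSup_le fun s => ?_⟩
    · rintro _ ⟨s, rfl⟩
      exact Components.subnormal_map_equiv (MulAut.conj (s : P)) hX
    · rintro _ ⟨x, hx, rfl⟩
      exact M.mul_mem (M.mul_mem (d.le s.2) (hXM hx)) (M.inv_mem (d.le s.2))
    · refine le_normalizer_iff.2 fun s hs y hy => ?_
      have h1 : ∀ t ∈ (S : Subgroup P), (⨆ s : ↥(S : Subgroup P),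
          X.map (MulAut.conj (s : P)).toMonoidHom).map (MulAut.conj t).toMonoidHom ≤
          ⨆ s : ↥(S : Subgroup P), X.map (MulAut.conj (s : P)).toMonoidHom := by
        intro t ht
        rw [Subgroup.map_iSup, iSup_le_iff]
        intro u
        refine le_trans ?_ (le_iSup (fun s : ↥(S : Subgroup P) =>
          X.map (MulAut.conj (s : P)).toMonoidHom) ⟨t * u, Subgroup.mul_mem _ ht u.2⟩)
        rw [LocalChar.conj_map_conj_map]
      exact h1 s hs ⟨y, hy, rfl⟩
    · refine le_trans (le_of_eq (LocalChar.conj_map_one X).symm) ?_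
      exact le_iSup (fun s : ↥(S : Subgroup P) => X.map (MulAut.conj (s : P)).toMonoidHom) 1
    · rintro _ ⟨x, hx, rfl⟩
      exact (mem_normalizer_iff.1 (hZ s.2) x).1 (hXZ hx)
  obtain ⟨N', hN', hNN', -⟩ := hclos N hN hNM
  obtain ⟨X, hX, ⟨hXsn, hXM, hXS⟩, hXmax⟩ :
      ∃ X, N' ≤ X ∧ X ∈ good ∧ ∀ Y ∈ good, X ≤ Y → Y = X := by
    obtain ⟨X, hX, hXmax⟩ := (Set.toFinite good).exists_le_maximal hN'
    exact ⟨X, hX, hXmax.1, fun Y hY hXY => le_antisymm (hXmax.2 hY hXY) hXY⟩
  suffices hXn : X.Normal from hNN'.trans (hX.trans (M.normal_le_normalCore.2 hXM))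
  by_contra hXn
  have hNX : normalizer (X : Set P) ≤ M := d.unique _ hXS fun h => hXn (normalizer_eq_top_iff.1 h)
  -- the next term of a subnormal series
  obtain ⟨X₁, hX₁, hlt, hle⟩ : ∃ X₁ : Subgroup P, X₁.IsSubnormal ∧ X < X₁ ∧
      X₁ ≤ normalizer (X : Set P) := by
    clear hXmax hX hXM hXS hNX
    induction hXsn with
    | top => exact absurd (inferInstance : (⊤ : Subgroup P).Normal) hXn
    | step H K hHK hK hn ih =>
      rcases hHK.lt_or_eq with h | h
      · exact ⟨K, hK, h, (normal_subgroupOf_iff_le_normalizer hHK).1 hn⟩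
      · subst h; exact ih hXn
  obtain ⟨Y, hY, hX₁Y, hYmin⟩ := hclos X₁ hX₁ (hle.trans hNX)
  exact hlt.not_ge (hXmax Y hY (hlt.le.trans hX₁Y) ▸ hX₁Y)

/-- The core of `M` is `p`-closed. -/
theorem Data.isPClosed_normalCore (d : Data S M) : IsPClosed p ↥M.normalCore := by
  by_contra h
  exact d.pResidual_not_le ((d.isPIrreducible.2 _ inferInstance h).trans M.normalCore_le)

theorem Data.inf_sylow_le (d : Data S M) {N : Subgroup P} (hN : N.IsSubnormal) (hNM : N ≤ M) :
    N ⊓ (S : Subgroup P) ≤ pCore p P :=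
  LocalChar.le_pCore_of_normal_isPClosed inferInstance d.isPClosed_normalCore
    (inf_le_left.trans (d.le_normalCore_of_isSubnormal hN hNM)) (S.2.to_le inf_le_right)

end Cfsg.Agent.Lib.PMinimal55
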